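import Cfsg.Agent.BpSpor.MBigEleven
import Cfsg.Agent.MThirteen.RowM
import Cfsg.Agent.CpAutMSeven.SixRow
import Cfsg.Agent.OrdDiv.Table

/-!
# Facts on the Monster (helper58)

In the model `MG`, `zz` of type 2B, `TA` the class 2A.

* `six` : the product of two elements of `TA` has order at most 6;
* `dvd_three`, `dvd_five` : 16 divides `|C(x)|`, `x ∈ C(zz)` of order 3, 5;
* `exists_seven` : 16 divides `|C(x)|` for some `x` of order 7.
-/

set_option autoImplicit false
set_option maxRecDepth 100000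

namespace Cfsg.Agent.H58.Cop.MLow

open Cfsg Cfsg.Agent.MonsterX Cfsg.Agent.MonsterX.InstData Cfsg.Agent.MonsterX.MainPack Cfsg.Agent.MonsterU
open Cfsg.Agent.MonsterP Cfsg.Agent.MonsterN Cfsg.Agent.LThreeMB
open Cfsg.Agent.MonsterX.MainBasic Cfsg.Agent.MonsterX.MainSimple Cfsg.Agent.MonsterX.Model
open Cfsg.Agent.BpSpor.MBigModel
open Cfsg.Agent.LThreeB.Row (TA)
open Cfsg.Spor (Co1)
open Subgroup (centralizer zpowers mem_centralizer_singleton_iff)

/-- **6-transpositions.** -/
theorem six_ta {t s : MG} (ht : TA t) (hs : TA s) : orderOf (t * s) ≤ 6 := by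
  have ht' : IsConj (tG LitFin.all.hG LitFin.all.hR) t := ht
  have hs' : IsConj (tG LitFin.all.hG LitFin.all.hR) s := hs
  obtain ⟨a, rfl⟩ := isConj_iff.1 ht'
  obtain ⟨b, rfl⟩ := isConj_iff.1 hs'
  have h1 := MainPack.six LitFin.all.hG LitFin.all.hR LitFin.all.hL LitFin.all.hO LitFin.all.hT
    InstanceFinal.mExtra.order_le (a⁻¹ * b)
  have h2 : a * tG LitFin.all.hG LitFin.all.hR * a⁻¹ * (b * tG LitFin.all.hG LitFin.all.hR * b⁻¹) =
      a * (tG LitFin.all.hG LitFin.all.hR * ((a⁻¹ * b) * tG LitFin.all.hG LitFin.all.hR * (a⁻¹ * b)⁻¹)) * a⁻¹ := by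
    group
  rw [h2, ← MulAut.conj_apply, MulEquiv.orderOf_eq]
  exact h1

theorem ta_conj {t : MG} (ht : TA t) (g : MG) : TA (g * t * g⁻¹) := LThreeB.Par.ta_conj LitFin.all t g ht

theorem exists_ta : ∃ t : MG, TA t := ⟨_, LThreeB.Par.ta_iota LitFin.all KDone.lnk KDone.lft⟩

theorem orderOf_ta {t : MG} (ht : TA t) : orderOf t = 2 := MThirteen.Row.ta_order ht

/-- the order of `C_{Co1}(pi x)` divides `|C(x)|` -/
theorem card_dvd {p : ℕ} (hp : p.Prime) (ho : Odd p) {x : centralizer ({zz} : Set MG)} (hx : orderOf x = p) :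
    Nat.card ↥(centralizer ({pi x} : Set Co1)) ∣ Nat.card ↥(centralizer ({(x : MG)} : Set MG)) := by
  have hfin := finite
  have h1 := MFive.be_surj chart hp ho (x := x) (by rw [← hx, pow_orderOf_eq_one])
  have h2 := Subgroup.card_dvd_of_surjective _ h1
  exact h2.trans (Subgroup.card_dvd_of_le inf_le_right)

/-- the order of `C_Q(x)` divides `|C(x)|` -/
theorem fr_dvd {p : ℕ} (ho : Odd p) {x : centralizer ({zz} : Set MG)} (hx : orderOf x = p) :
    fr (pi x) * 2 ∣ Nat.card ↥(centralizer ({(x : MG)} : Set MG)) := by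
  have hfin := finite
  have h1 := MFive.card_PB chart ho (x := x) (by rw [← hx, pow_orderOf_eq_one])
  have h2 : Nat.card ↥(PB KDone.K.ι.range (x : MG)) ∣ Nat.card (XX (x : MG)) := Subgroup.card_subgroup_dvd_card _
  rw [← h1]
  refine h2.trans ?_
  rw [Subgroup.card_eq_card_quotient_mul_card_subgroup (Zx (x : MG))]
  exact dvd_mul_right _ _

theorem card_XX_dvd (s : Co1) : Nat.card (XX s) ∣ Nat.card ↥(centralizer ({s} : Set Co1)) := by
  rw [Subgroup.card_eq_card_quotient_mul_card_subgroup (Zx s)]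
  exact dvd_mul_right _ _

/-- **Elements of order 3 commuting with `zz`.** -/
theorem dvd_three {x : centralizer ({zz} : Set MG)} (hx : orderOf x = 3) :
    16 ∣ Nat.card ↥(centralizer ({(x : MG)} : Set MG)) := by
  have hp : orderOf (pi x) = 3 := MFive.orderOf_pi chart (by norm_num) (by decide) hx
  rcases CoOneFin.coOne.ranks _ hp with h | h | h | h
  · have h1 := CoOneFin.coOne.suz _ hp h
    have h2 : Nat.card (XX (pi x)) = 448345497600 :=
      OrdDiv.table.spor _ (OrdDiv.Grp.suz, 448345497600) (by simp [OrdDiv.spor]) h1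
    have h3 : 16 ∣ Nat.card (XX (pi x)) := by rw [h2]; norm_num
    exact (h3.trans (card_XX_dvd _)).trans (card_dvd (by norm_num) (by decide) hx)
  all_goals
    refine dvd_trans ?_ (fr_dvd (by decide) hx)
    rw [h]; norm_num

/-- **Elements of order 5 commuting with `zz`.** -/
theorem dvd_five {x : centralizer ({zz} : Set MG)} (hx : orderOf x = 5) :
    16 ∣ Nat.card ↥(centralizer ({(x : MG)} : Set MG)) := by
  have hp : orderOf (pi x) = 5 := MFive.orderOf_pi chart (by norm_num) (by decide) hx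
  rcases CpAutBFive.Final.coFive.ranks _ hp with h | h | h
  · have h1 : Spor.IsoJ2 (XX (pi x)) := MFive.JTwo.isoJ2 hp h
    have h2 : Nat.card (XX (pi x)) = 604800 :=
      OrdDiv.table.spor _ (OrdDiv.Grp.j2, 604800) (by simp [OrdDiv.spor]) h1
    have h3 : 16 ∣ Nat.card (XX (pi x)) := by rw [h2]; norm_num
    exact (h3.trans (card_XX_dvd _)).trans (card_dvd (by norm_num) (by decide) hx)
  all_goals
    refine dvd_trans ?_ (fr_dvd (by decide) hx)
    rw [h]; norm_num

/-- **An element of order 7.** -/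
theorem exists_seven : ∃ y : MG, orderOf y = 7 ∧ 16 ∣ Nat.card ↥(centralizer ({y} : Set MG)) := by
  have hfin := finite
  obtain ⟨y, hy, K, hK, -, hc⟩ := CpAutMSeven.Seventeen.exists_he
  refine ⟨y, hy, dvd_trans ?_ (Subgroup.card_dvd_of_le hK)⟩
  rw [hc]
  norm_num

end Cfsg.Agent.H58.Cop.MLow
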