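import Cfsg.Agent.H995.CopEngine

/-!
# Sylow arithmetic with Burnside's transfer theorem (helper58)
-/

set_option autoImplicit false

namespace Cfsg.Agent.H58.Cop

open Subgroup

theorem centralizer_zpowers {G : Type*} [Group G] (x : G) :
    centralizer ((zpowers x : Subgroup G) : Set G) = centralizer ({x} : Set G) := by
  ext g
  rw [mem_centralizer_iff, mem_centralizer_singleton_iff]
  constructor
  · intro h
    exact (h x (mem_zpowers x)).symm
  · rintro h _ ⟨i, rfl⟩
    exact ((show Commute x g from h.symm).zpow_left i).eq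

/-- **Sylow arithmetic** in a simple group. -/
theorem arith {G : Type*} [Group G] [Finite G] [IsSimpleGroup G] {x : G} {s : ℕ} (hs : s.Prime) (hx : orderOf x = s)
    (hsq : ¬ s ^ 2 ∣ Nat.card G) (hne : Nat.card G ≠ s) :
    ∃ e, e ∣ s - 1 ∧ e ≠ 1 ∧
      Nat.card (normalizer ((zpowers x : Subgroup G) : Set G)) = Nat.card (centralizer ({x} : Set G)) * e ∧
      Nat.card (centralizer ({x} : Set G)) * e ∣ Nat.card G ∧
      Nat.card G / (Nat.card (centralizer ({x} : Set G)) * e) % s = 1 % s := by
  have : Fact s.Prime := ⟨hs⟩
  have hcz : Nat.card (zpowers x) = s := by rw [Nat.card_zpowers, hx]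
  have hidx : ¬ s ∣ (zpowers x).index := by
    intro h
    apply hsq
    rw [← Subgroup.card_mul_index (zpowers x), hcz, pow_two]
    exact Nat.mul_dvd_mul_left s h
  have hP : IsPGroup s (zpowers x) := IsPGroup.of_card (n := 1) (by rw [hcz, pow_one])
  let P : Sylow s G := hP.toSylow hidx
  have hPx : (P : Subgroup G) = zpowers x := rfl
  set N := normalizer ((zpowers x : Subgroup G) : Set G) with hN
  set C := centralizer ({x} : Set G) with hC
  have hCx : centralizer ((zpowers x : Subgroup G) : Set G) = C := centralizer_zpowers x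
  have hCN : C ≤ N := by
    rw [← hCx]
    exact Subgroup.centralizer_le_normalizer _
  have h1 := Cfsg.Agent.H995.CopEngine.relIndex_centralizer_dvd hs (zpowers x) hcz
  rw [hCx] at h1
  have h2 : Nat.card C * C.relIndex N = Nat.card N := by
    have := Subgroup.relIndex_mul_relIndex ⊥ C N bot_le hCN
    rwa [Subgroup.relIndex_bot_left, Subgroup.relIndex_bot_left] at this
  have h3 : N.index * Nat.card N = Nat.card G := by rw [mul_comm, N.card_mul_index]
  have h4 : Nat.card (Sylow s G) = N.index := Sylow.card_eq_index_normalizer P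
  have h5 : Nat.card (Sylow s G) % s = 1 % s := card_sylow_modEq_one s G
  refine ⟨C.relIndex N, h1, ?_, h2.symm, ?_, ?_⟩
  · intro h6
    have h7 : N ≤ C := by
      rw [← Subgroup.relIndex_eq_one]
      exact h6
    have h8 : normalizer ((P : Subgroup G) : Set G) ≤ centralizer ((P : Subgroup G) : Set G) := by
      rw [hPx, hCx]
      exact h7
    have h9 := MonoidHom.ker_transferSylow_isComplement' P h8
    have h10 : (MonoidHom.transferSylow P h8).ker.Normal := inferInstance
    rcases h10.eq_bot_or_eq_top with h11 | h11
    · rw [h11] at h9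
      have h12 := h9.card_mul
      rw [Subgroup.card_bot, one_mul] at h12
      apply hne
      rw [← h12]
      exact hcz
    · rw [h11] at h9
      have h12 := h9.card_mul
      rw [Subgroup.card_top] at h12
      have h13 : Nat.card P = 1 := Nat.eq_of_mul_eq_mul_left Nat.card_pos (h12.trans (mul_one _).symm)
      have h14 : Nat.card P = s := hcz
      rw [h14] at h13
      exact hs.one_lt.ne' h13
  · rw [h2]
    exact ⟨_, by rw [mul_comm]; exact h3.symm⟩
  · rw [h2, ← h3, Nat.mul_div_cancel _ Nat.card_pos, ← h4]
    exact h5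

end Cfsg.Agent.H58.Cop
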