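import Cfsg.Agent.H58.Cop.MFin
import Cfsg.Agent.H58.Cop.Arith

/-!
# `SC 59 Spor.Monster` (helper58)

* `norm_fiftynine` : `|C(v)| = 59`, `|N(⟨v⟩)| = 59 · 29` for `v` of order 59;
* `sc_fiftynine : SC 59 Spor.Monster`.
-/

set_option autoImplicit false
set_option maxRecDepth 100000

namespace Cfsg.Agent.H58.Cop.M

open Cfsg Cfsg.Agent.H995.CopEngine Cfsg.Agent.H995.CopTwo
open Cfsg.Agent.BpSpor.MBigModel Cfsg.Agent.H58.Cop.MLow
open Subgroup

theorem dvd_prod {n : ℕ} (hn : n ∣ 808017424794512875886459904961710757005754368000000000)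
    (h : ∀ q : ℕ, q.Prime → q ∣ n → q = 23 ∨ q = 29 ∨ q = 41 ∨ q = 59 ∨ q = 71) : n ∣ 59 * 1941637 := by
  rw [Nat.dvd_iff_prime_pow_dvd_dvd]
  intro p k hp hk
  rcases Nat.eq_zero_or_pos k with rfl | hk0
  · rw [pow_zero]; exact one_dvd _
  · have h1 := h p hp ((dvd_pow_self p hk0.ne').trans hk)
    have h2 : k ≤ 1 := by
      by_contra hlt
      have h3 : p ^ 2 ∣ 808017424794512875886459904961710757005754368000000000 :=
        ((pow_dvd_pow p (by omega)).trans hk).trans hn
      rcases h1 with rfl | rfl | rfl | rfl | rfl <;> norm_num at h3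
    have h3 : k = 1 := by omega
    subst h3
    rw [pow_one]
    rcases h1 with rfl | rfl | rfl | rfl | rfl <;> norm_num

theorem chk : ∀ L ∈ ([23, 29, 41, 71] : List ℕ).sublists, ∀ e ∈ ([1, 2, 29, 58] : List ℕ), e ≠ 1 →
    808017424794512875886459904961710757005754368000000000 % (59 * L.prod * e) = 0 →
    808017424794512875886459904961710757005754368000000000 / (59 * L.prod * e) % 59 = 1 → L.prod = 1 ∧ e = 29 := by
  decide +kernel

theorem chk58 : ∀ e < 59, e ∣ 58 → e ∈ ([1, 2, 29, 58] : List ℕ) := by decide +kernel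

/-- **The centralizer and the normalizer of an element of order 59.** -/
theorem norm_fiftynine (hK : AllKnown.{0}) {v : MG} (hv : orderOf v = 59) :
    Nat.card (centralizer ({v} : Set MG)) = 59 ∧
      Nat.card (normalizer ((zpowers v : Subgroup MG) : Set MG)) = 59 * 29 := by
  have hfin := finite
  have hs := simple
  obtain ⟨e, he, he1, hN, h0, h1⟩ := arith prime59 hv (by rw [card_M]; norm_num) (by rw [card_M]; norm_num)
  have h2 : Nat.card (centralizer ({v} : Set MG)) ∣ 59 * 1941637 :=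
    dvd_prod (card_M ▸ Subgroup.card_subgroup_dvd_card _) fun q hq hd => primes_cent hK hv hq hd
  obtain ⟨m, hm⟩ : 59 ∣ Nat.card (centralizer ({v} : Set MG)) := dvd_59 hv rfl
  rw [hm] at h2 h1 hN h0
  have h3 : m ∣ 1941637 := Nat.dvd_of_mul_dvd_mul_left (by norm_num) h2
  rw [card_M] at h1 h0
  obtain ⟨L, hL, hmL⟩ := H94.PG.Sp.exists_sublist [23, 29, 41, 71] (by
    intro p hp
    simp only [List.mem_cons, List.not_mem_nil, or_false] at hp
    rcases hp with rfl | rfl | rfl | rfl <;> norm_num) m (by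
    have e : ([23, 29, 41, 71] : List ℕ).prod = 1941637 := by decide +kernel
    rw [e]; exact h3)
  subst hmL
  obtain ⟨h4, h5⟩ := chk L hL e (chk58 e (by have := Nat.le_of_dvd (by norm_num) he; omega) he) he1
    (Nat.mod_eq_zero_of_dvd h0) h1
  rw [hm, hN, h4, h5]
  exact ⟨rfl, rfl⟩

/-- **The Monster, `p = 59`.** -/
theorem sc_fiftynine (hK : AllKnown.{0}) : H537.Cop.SC 59 Spor.Monster := by
  obtain ⟨e⟩ := Cfsg.Agent.MonsterP.Equiv.equiv
  exact H537.Cop.SC.congr e fun x hx => (norm_fiftynine hK hx).1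

end Cfsg.Agent.H58.Cop.M
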