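import Mathlib

/-!
# Full Sylow subgroups in a centralizer (helper58)

`sylow_full` : `q` divides `|C(v)|` and the `q`-part of `|C(y)|` divides `|C(v)|` for the `y` of order `q` in `C(v)`: then
`C(v)` contains a Sylow `q`-subgroup of `G`.
-/

set_option autoImplicit false

namespace Cfsg.Agent.H58.Cop

open Subgroup

variable {G : Type*} [Group G] [Finite G] {q : ℕ}

theorem exists_center_order [Fact q.Prime] {R : Subgroup G} (hR : IsPGroup q R) (h1 : R ≠ ⊥) :
    ∃ y ∈ R, orderOf y = q ∧ ∀ g ∈ R, g * y = y * g := by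
  have hnt : Nontrivial R := (Subgroup.nontrivial_iff_ne_bot R).2 h1
  have hc : Nontrivial (center R) := hR.center_nontrivial
  have hp : IsPGroup q (center R) := hR.to_subgroup _
  obtain ⟨n, hn⟩ := IsPGroup.iff_card.1 hp
  have hn0 : n ≠ 0 := by
    rintro rfl
    rw [pow_zero] at hn
    have := Finite.one_lt_card (α := center R)
    omega
  obtain ⟨y, hy⟩ := exists_prime_orderOf_dvd_card' (G := center R) q (by rw [hn]; exact dvd_pow_self q hn0)
  refine ⟨((y : R) : G), (y : R).2, by rw [Subgroup.orderOf_coe, Subgroup.orderOf_coe, hy], ?_⟩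
  intro g hg
  exact congrArg Subtype.val (Subgroup.mem_center_iff.1 y.2 ⟨g, hg⟩)

/-- **A full Sylow subgroup.** -/
theorem sylow_full [Fact q.Prime] {C : Subgroup G} (hq : q ∣ Nat.card C)
    (h : ∀ y ∈ C, orderOf y = q → ∀ k : ℕ, q ^ k ∣ Nat.card (centralizer ({y} : Set G)) → q ^ k ∣ Nat.card C) :
    ∃ P : Sylow q G, (P : Subgroup G) ≤ C := by
  have hqp : q.Prime := Fact.out
  obtain ⟨R⟩ : Nonempty (Sylow q C) := inferInstance
  set R' : Subgroup G := (R : Subgroup C).map C.subtype with hR'
  have hcR : Nat.card R' = q ^ (Nat.card C).factorization q := by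
    rw [hR', Subgroup.card_map_of_injective C.subtype_injective, Sylow.card_eq_multiplicity]
  have hpR : IsPGroup q R' := IsPGroup.of_card hcR
  have hRC : R' ≤ C := Subgroup.map_subtype_le _
  have hle : ∀ k : ℕ, q ^ k ∣ Nat.card C → q ^ k ≤ Nat.card R' := by
    intro k hk
    rw [hcR]
    exact Nat.pow_le_pow_right hqp.pos ((hqp.pow_dvd_iff_le_factorization Nat.card_pos.ne').1 hk)
  have hne : R' ≠ ⊥ := by
    intro hb
    rw [hb, Subgroup.card_bot] at hle
    have h3 := hle 1 (by rwa [pow_one])
    rw [pow_one] at h3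
    have := hqp.one_lt
    omega
  obtain ⟨P, hP⟩ := hpR.exists_le_sylow
  have hPne : (P : Subgroup G) ≠ ⊥ := fun hb => hne (le_bot_iff.1 (hb ▸ hP))
  -- a `q`-subgroup of `C(y)`
  have key : ∀ y ∈ R', orderOf y = q → ∀ A : Subgroup G, A ≤ (P : Subgroup G) → A ≤ centralizer ({y} : Set G) →
      R' ≤ A → A = R' := by
    intro y hy hyo A hA hAy hRA
    obtain ⟨n, hn⟩ := IsPGroup.iff_card.1 (P.2.to_le hA)
    have h1 : q ^ n ∣ Nat.card (centralizer ({y} : Set G)) := hn ▸ Subgroup.card_dvd_of_le hAy
    have h2 := hle n (h y (hRC hy) hyo n h1)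
    rw [← hn] at h2
    exact (Subgroup.eq_of_le_of_card_ge hRA h2).symm
  obtain ⟨y, hyR, hyo, hyc⟩ := exists_center_order hpR hne
  obtain ⟨u, huP, huo, huc⟩ := exists_center_order P.2 hPne
  have hu : u ∈ R' := by
    have h1 := key y hyR hyo (R' ⊔ zpowers u) (sup_le hP (by rwa [zpowers_le])) (sup_le (fun g hg => by
      rw [mem_centralizer_singleton_iff]; exact hyc g hg) (by
        rw [zpowers_le, mem_centralizer_singleton_iff]
        exact (huc y (hP hyR)).symm)) le_sup_left
    rw [← h1]
    exact (le_sup_right : zpowers u ≤ R' ⊔ zpowers u) (mem_zpowers u)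
  refine ⟨P, ?_⟩
  rw [key u hu huo P le_rfl (fun g hg => by rw [mem_centralizer_singleton_iff]; exact huc g hg) hP]
  exact hRC

/-- a conjugate of `C` contains a given element of order `q` -/
theorem exists_conj_mem [Fact q.Prime] {C : Subgroup G} {P : Sylow q G} (hP : (P : Subgroup G) ≤ C) {y : G}
    (hy : orderOf y = q) : ∃ g : G, g * y * g⁻¹ ∈ C := by
  have hp : IsPGroup q (zpowers y) := IsPGroup.of_card (n := 1) (by rw [Nat.card_zpowers, hy, pow_one])
  obtain ⟨P', hP'⟩ := hp.exists_le_sylow
  obtain ⟨g, rfl⟩ := MulAction.exists_smul_eq G P P'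
  refine ⟨g⁻¹, hP ?_⟩
  have h1 : y ∈ ((g • P : Sylow q G) : Subgroup G) := hP' (mem_zpowers y)
  rw [Sylow.coe_subgroup_smul, Subgroup.mem_pointwise_smul_iff_inv_smul_mem, ← map_inv] at h1
  exact h1

/-- in a group whose order is divisible by `q ^ 2`, the centralizer of an element of order `q` has order divisible by
`q ^ 2` -/
theorem sq_dvd_cent [Fact q.Prime] (h2 : q ^ 2 ∣ Nat.card G) {y : G} (hy : orderOf y = q) :
    q ^ 2 ∣ Nat.card (centralizer ({y} : Set G)) := by
  have hqp : q.Prime := Fact.out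
  have hp : IsPGroup q (zpowers y) := IsPGroup.of_card (n := 1) (by rw [Nat.card_zpowers, hy, pow_one])
  obtain ⟨P, hP⟩ := hp.exists_le_sylow
  have hyP : y ∈ (P : Subgroup G) := hP (mem_zpowers y)
  have hPc : q ^ 2 ∣ Nat.card (P : Subgroup G) := by
    rw [Sylow.card_eq_multiplicity]
    exact pow_dvd_pow q ((hqp.pow_dvd_iff_le_factorization Nat.card_pos.ne').1 h2)
  have hPne : (P : Subgroup G) ≠ ⊥ := by
    intro hb
    rw [hb, Subgroup.card_bot] at hPc
    have := Nat.le_of_dvd one_pos hPc
    have := hqp.two_le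
    nlinarith
  obtain ⟨u, huP, huo, huc⟩ := exists_center_order P.2 hPne
  by_cases hu : u ∈ zpowers y
  · -- `y` is central in `P`
    have hzu : zpowers u = zpowers y := by
      apply Subgroup.eq_of_le_of_card_ge (zpowers_le.2 hu)
      rw [Nat.card_zpowers, Nat.card_zpowers, hy, huo]
    refine hPc.trans (Subgroup.card_dvd_of_le fun g hg => ?_)
    rw [mem_centralizer_singleton_iff]
    have h3 : y ∈ zpowers u := by rw [hzu]; exact mem_zpowers y
    obtain ⟨i, rfl⟩ := mem_zpowers_iff.1 h3
    exact ((show Commute g u from huc g hg).zpow_right i).eq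
  · have hyu : u * y = y * u := (huc y hyP).symm
    have hd : Disjoint (zpowers u) (zpowers y) := by
      rw [Subgroup.disjoint_def]
      intro a ha hb
      by_contra ha1
      have h4 : zpowers a = zpowers u := by
        apply Subgroup.eq_of_le_of_card_ge (zpowers_le.2 ha)
        rw [Nat.card_zpowers, Nat.card_zpowers, huo]
        have h5 : orderOf a ∣ q := by
          have := orderOf_dvd_of_mem_zpowers ha
          rwa [huo] at this
        rcases (Nat.dvd_prime hqp).1 h5 with h6 | h6
        · exact absurd (orderOf_eq_one_iff.1 h6) ha1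
        · exact h6.ge
      apply hu
      have h6 : u ∈ zpowers a := by rw [h4]; exact mem_zpowers u
      exact (zpowers_le.2 hb) h6
    have h5 : ∃ A : Subgroup G, A ≤ centralizer ({y} : Set G) ∧ q ^ 2 ∣ Nat.card A := by
      let f : (zpowers u) × (zpowers y) → centralizer ({y} : Set G) := fun a => ⟨(a.1 : G) * a.2, by
        rw [mem_centralizer_singleton_iff]
        obtain ⟨i, hi⟩ := mem_zpowers_iff.1 a.1.2
        obtain ⟨j, hj⟩ := mem_zpowers_iff.1 a.2.2
        rw [← hi, ← hj]
        have c1 : Commute (u ^ i) y := (show Commute u y from hyu).zpow_left i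
        have c2 : Commute (y ^ j) y := (Commute.refl y).zpow_left j
        exact (c1.mul_left c2).eq⟩
      let A : Subgroup G := zpowers u ⊔ zpowers y
      refine ⟨A, sup_le ?_ ?_, ?_⟩
      · rw [zpowers_le, mem_centralizer_singleton_iff]; exact hyu
      · rw [zpowers_le, mem_centralizer_singleton_iff]
      · have h6 : IsPGroup q A := P.2.to_le (sup_le (zpowers_le.2 huP) hP)
        obtain ⟨n, hn⟩ := IsPGroup.iff_card.1 h6
        rw [hn]
        refine pow_dvd_pow q ?_
        by_contra hlt
        have hn1 : n ≤ 1 := by omega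
        have h7 : Nat.card A ≤ q := by
          rw [hn]
          calc q ^ n ≤ q ^ 1 := Nat.pow_le_pow_right hqp.pos hn1
            _ = q := pow_one q
        have h8 : zpowers u = A := Subgroup.eq_of_le_of_card_ge le_sup_left (by rw [Nat.card_zpowers, huo]; exact h7)
        have h9 : zpowers y = A := Subgroup.eq_of_le_of_card_ge le_sup_right (by rw [Nat.card_zpowers, hy]; exact h7)
        apply hu
        rw [h9, ← h8]
        exact mem_zpowers u
    obtain ⟨A, hA, hA2⟩ := h5
    exact hA2.trans (Subgroup.card_dvd_of_le hA)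

end Cfsg.Agent.H58.Cop
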