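import Cfsg.Agent.H995.CopCoprime

/-!
# Subgroups containing an element of a large prime order (helper58)

`H` finite, `r` a prime dividing `|H|` once, `K` the largest normal `r'`-subgroup.

* `core_le` : `K` is centralized by the elements of order `r` if no prime power dividing `|K|` is `1` modulo `r`;
* `cases` : `H / K` has a normal Sylow `r`-subgroup, or a simple normal subgroup `S` of order divisible by `r`;
* `psl_inv` : an involution of `PSL₂(F)` inverting an element of order divisible by `ρ`, `ρ ∣ |F| - 1`;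
* `exists_invol` : an involution of `C_H(K)` inverting an element of order divisible by `ρ` modulo `K`.
-/

set_option autoImplicit false

namespace Cfsg.Agent.H58.Cop

open Subgroup
open Cfsg.Agent.H995.CopEngine

universe u

section Core

variable {H : Type u} [Group H] [Finite H] {r : ℕ}

/-- **The elements of order `r` centralize a normal `r'`-subgroup without suitable prime powers.** -/
theorem core_le (hr : r.Prime) (K : Subgroup H) [K.Normal] (hrK : ¬ r ∣ Nat.card K)
    (hc : ∀ p : ℕ, p.Prime → ∀ i, 1 ≤ i → p ^ i ∣ Nat.card K → ¬ r ∣ p ^ i - 1) {w : H} (hw : w ^ r = 1) :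
    K ≤ centralizer ({w} : Set H) := by
  have h1 : Nat.card K ∣ Nat.card (K ⊓ centralizer ({w} : Set H) : Subgroup H) := by
    rw [Nat.dvd_iff_prime_pow_dvd_dvd]
    intro p k hp hk
    rcases Nat.eq_zero_or_pos k with rfl | hk0
    · rw [pow_zero]; exact one_dvd _
    · have hpr : p ≠ r := by
        rintro rfl
        exact hrK ((dvd_pow_self p hk0.ne').trans hk)
      exact pow_dvd_cent hr K hrK hw hp hpr hk (hc p hp)
  have h2 : K ⊓ centralizer ({w} : Set H) = K :=
    Subgroup.eq_of_le_of_card_ge inf_le_left (Nat.le_of_dvd Nat.card_pos h1)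
  rw [← h2]
  exact inf_le_right

/-- the quotient by the largest normal `r'`-subgroup has no normal `r'`-subgroup -/
theorem quot_core (hr : r.Prime) {N : Subgroup H} [hN : N.Normal] (hrN : ¬ r ∣ Nat.card N)
    (hmax : ∀ A : Subgroup H, A.Normal → ¬ r ∣ Nat.card A → A ≤ N) :
    ∀ A : Subgroup (H ⧸ N), A.Normal → ¬ r ∣ Nat.card A → A = ⊥ := by
  have hc := Subgroup.card_eq_card_quotient_mul_card_subgroup N
  intro A hA hrA
  have h3 : (A.comap (QuotientGroup.mk' N)).Normal := inferInstance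
  have h4 : Nat.card (A.comap (QuotientGroup.mk' N)) = Nat.card A * Nat.card N := by
    have h5 := (A.comap (QuotientGroup.mk' N)).card_mul_index
    rw [Subgroup.index_comap_of_surjective _ (QuotientGroup.mk'_surjective N), hc, ← A.card_mul_index, mul_right_comm] at h5
    exact Nat.eq_of_mul_eq_mul_right (Nat.pos_of_ne_zero A.index_ne_zero_of_finite) h5
  have h5 := hmax _ h3 (by
    rw [h4]
    intro h
    exact (hr.dvd_mul.1 h).elim hrA hrN)
  rw [eq_bot_iff]
  intro x hx
  obtain ⟨g, rfl⟩ := QuotientGroup.mk'_surjective N x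
  have h6 : g ∈ A.comap (QuotientGroup.mk' N) := hx
  exact (QuotientGroup.eq_one_iff g).2 (h5 h6)

/-- **Dichotomy** for a group with `O_{r'} = 1`. -/
theorem cases_top (hr : r.Prime) (hd : r ∣ Nat.card H) (h2 : ¬ r ^ 2 ∣ Nat.card H)
    (hO : ∀ A : Subgroup H, A.Normal → ¬ r ∣ Nat.card A → A = ⊥)
    (hS : ∀ S : Subgroup H, IsSimpleGroup S → (¬ ∀ a b : S, a * b = b * a) → r ∣ Nat.card S →
      ∀ d, d ∣ Nat.card S → d % r = 1 → d = 1 ∨ d = r + 1) (P : Sylow r H) :
    ((P : Subgroup H).Normal ∧ Nat.card H ∣ r * (r - 1)) ∨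
      (IsSimpleGroup (Subgroup.normalClosure ((P : Subgroup H) : Set H)) ∧
        (¬ ∀ a b : Subgroup.normalClosure ((P : Subgroup H) : Set H), a * b = b * a) ∧
        r ∣ Nat.card (Subgroup.normalClosure ((P : Subgroup H) : Set H)) ∧ Nat.card H ∣ r * (r - 1) * (r + 1)) := by
  have : Fact r.Prime := ⟨hr⟩
  have hcard := sylow_card hr hd h2 P
  set S := Subgroup.normalClosure ((P : Subgroup H) : Set H) with hSdef
  have hPS : (P : Subgroup H) ≤ S := Subgroup.le_normalClosure
  have hrS : r ∣ Nat.card S := hcard ▸ Subgroup.card_dvd_of_le hPS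
  have hsimple : IsSimpleGroup S := simple_closure hr hd h2 hO P
  by_cases hab : ∀ a b : S, a * b = b * a
  · left
    let _ : CommGroup S := { (inferInstance : Group S) with mul_comm := hab }
    have hp : (Nat.card S).Prime := IsSimpleGroup.prime_card
    have h3 : Nat.card S = r := ((Nat.prime_dvd_prime_iff_eq hr hp).1 hrS).symm
    have h4 : (P : Subgroup H) = S := Subgroup.eq_of_le_of_card_ge hPS (by rw [h3, hcard])
    have h5 : (P : Subgroup H).Normal := by rw [h4]; infer_instance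
    refine ⟨h5, ?_⟩
    have hcent := mem_normal_of_coprime hr hd h2 hO P h5
    have h6 := relIndex_centralizer_dvd hr (P : Subgroup H) hcard
    have h7 : normalizer ((P : Subgroup H) : Set H) = ⊤ := Subgroup.normalizer_eq_top_iff.2 h5
    rw [hcent, h7, Subgroup.relIndex_top_right] at h6
    rw [← (P : Subgroup H).card_mul_index, hcard]
    exact Nat.mul_dvd_mul_left _ h6
  · right
    exact ⟨hsimple, hab, hrS, card_dvd hr hd h2 hO hS⟩

end Core

section PSL

open Matrix

/-- **An involution of `PSL₂(F)` inverting an element.** -/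
theorem psl_inv {F : Type*} [Field F] [Fintype F] {ρ : ℕ} (hρ : ρ.Prime) (hρ2 : ρ ≠ 2) (hd : ρ ∣ Fintype.card F - 1) :
    ∃ x u : ProjectiveSpecialLinearGroup (Fin 2) F, x * x = 1 ∧ x * u * x⁻¹ = u⁻¹ ∧ ρ ∣ orderOf (u * u) := by
  classical
  obtain ⟨a, ha⟩ := IsCyclic.exists_generator (α := Fˣ)
  have hao : orderOf a = Fintype.card F - 1 := by
    rw [orderOf_eq_card_of_forall_mem_zpowers ha, Nat.card_eq_fintype_card, Fintype.card_units]
  let U : SpecialLinearGroup (Fin 2) F := ⟨!![(a : F), 0; 0, ((a⁻¹ : Fˣ) : F)], by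
    rw [Matrix.det_fin_two_of, mul_zero, sub_zero, ← Units.val_mul, mul_inv_cancel, Units.val_one]⟩
  let X : SpecialLinearGroup (Fin 2) F := ⟨!![0, 1; -1, 0], by
    rw [Matrix.det_fin_two_of]; ring⟩
  have hXX : X * X = -1 := by
    apply Subtype.ext
    show (!![0, 1; -1, 0] : Matrix (Fin 2) (Fin 2) F) * !![0, 1; -1, 0] = -1
    rw [Matrix.mul_fin_two]
    ext i j
    fin_cases i <;> fin_cases j <;> simp
  have hXU : X * U * X⁻¹ = U⁻¹ := by
    rw [mul_inv_eq_iff_eq_mul, eq_inv_mul_iff_mul_eq]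
    apply Subtype.ext
    show (!![(a : F), 0; 0, ((a⁻¹ : Fˣ) : F)] : Matrix (Fin 2) (Fin 2) F) * (!![0, 1; -1, 0] *
      !![(a : F), 0; 0, ((a⁻¹ : Fˣ) : F)]) = !![0, 1; -1, 0]
    rw [Matrix.mul_fin_two, Matrix.mul_fin_two]
    ext i j
    fin_cases i <;> fin_cases j <;> simp
  have hpow : ∀ k : ℕ, (U ^ k).1 = !![((a ^ k : Fˣ) : F), 0; 0, (((a⁻¹) ^ k : Fˣ) : F)] := by
    intro k
    induction k with
    | zero =>
      rw [pow_zero, pow_zero, pow_zero]
      show (1 : Matrix (Fin 2) (Fin 2) F) = _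
      ext i j
      fin_cases i <;> fin_cases j <;> simp
    | succ k ih =>
      rw [pow_succ]
      show (U ^ k).1 * !![(a : F), 0; 0, ((a⁻¹ : Fˣ) : F)] = _
      rw [ih, Matrix.mul_fin_two, pow_succ, pow_succ]
      ext i j
      fin_cases i <;> fin_cases j <;> simp
  have hcen : ∀ k : ℕ, U ^ k ∈ Subgroup.center (SpecialLinearGroup (Fin 2) F) → a ^ (2 * k) = 1 := by
    intro k hk
    let E : SpecialLinearGroup (Fin 2) F := ⟨!![1, 1; 0, 1], by rw [Matrix.det_fin_two_of]; ring⟩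
    have h1 := (Subgroup.mem_center_iff.1 hk) E
    have h2 : (E.1 * (U ^ k).1) 0 1 = ((U ^ k).1 * E.1) 0 1 := congrArg (fun g : SpecialLinearGroup (Fin 2) F => g.1 0 1) h1
    rw [hpow] at h2
    have hE : E.1 = !![1, 1; 0, 1] := rfl
    rw [hE, Matrix.mul_fin_two, Matrix.mul_fin_two] at h2
    have h3 : (a⁻¹) ^ k = a ^ k := by
      apply Units.ext
      simpa using h2
    rw [two_mul, pow_add]
    nth_rewrite 1 [← h3]
    rw [inv_pow, inv_mul_cancel]
  refine ⟨QuotientGroup.mk X, QuotientGroup.mk U, ?_, ?_, ?_⟩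
  · rw [← QuotientGroup.mk_mul, hXX, QuotientGroup.eq_one_iff, Subgroup.mem_center_iff]
    intro g
    rw [mul_neg, neg_mul, mul_one, one_mul]
  · rw [← QuotientGroup.mk_mul, ← QuotientGroup.mk_inv, ← QuotientGroup.mk_mul, hXU, QuotientGroup.mk_inv]
  · have h1 : (QuotientGroup.mk U * QuotientGroup.mk U : ProjectiveSpecialLinearGroup (Fin 2) F) =
        QuotientGroup.mk (U ^ 2) := by rw [← QuotientGroup.mk_mul, pow_two]
    rw [h1]
    set n := orderOf (QuotientGroup.mk (U ^ 2) : ProjectiveSpecialLinearGroup (Fin 2) F) with hn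
    have h2 : (QuotientGroup.mk (U ^ 2) : ProjectiveSpecialLinearGroup (Fin 2) F) ^ n = 1 := pow_orderOf_eq_one _
    rw [← QuotientGroup.mk_pow, QuotientGroup.eq_one_iff, ← pow_mul] at h2
    have h3 := hcen _ h2
    have h4 := orderOf_dvd_of_pow_eq_one h3
    rw [hao] at h4
    have h5 : ρ ∣ 2 * (2 * n) := hd.trans h4
    have h6 : ρ.Coprime 2 := (Nat.coprime_primes hρ Nat.prime_two).2 hρ2
    exact h6.dvd_of_dvd_mul_left (h6.dvd_of_dvd_mul_left h5)

end PSL

section Invol

variable {H : Type u} [Group H] [Finite H]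

/-- **Lifting an involution of `H / K` to the centralizer of `K`, `K` of odd order.** -/
theorem exists_invol (K : Subgroup H) [K.Normal] (hodd : ¬ 2 ∣ Nat.card K) {S : Subgroup (H ⧸ K)}
    (hS : S ≤ (centralizer (K : Set H)).map (QuotientGroup.mk' K)) {x u : H ⧸ K} (hx : x ∈ S) (hxx : x * x = 1)
    (hxu : x * u * x⁻¹ = u⁻¹) {ρ : ℕ} (hρ : ρ ∣ orderOf (u * u)) :
    ∃ t g : H, t ∈ centralizer (K : Set H) ∧ t * t = 1 ∧ ρ ∣ orderOf (t * (g * t * g⁻¹)) := by
  obtain ⟨c, hc, hcx⟩ := hS hx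
  obtain ⟨g, rfl⟩ := QuotientGroup.mk_surjective u
  have hcx' : (c : H ⧸ K) = x := hcx
  have hcc : c * c ∈ K := by
    rw [← QuotientGroup.eq_one_iff, QuotientGroup.mk_mul, hcx', hxx]
  set m := Nat.card K with hm
  have h1 : (c * c) ^ m = 1 := by
    have : (⟨c * c, hcc⟩ : K) ^ Nat.card K = 1 := pow_card_eq_one'
    exact congrArg Subtype.val this
  obtain ⟨j, hj⟩ : ∃ j, m = 2 * j + 1 := ⟨m / 2, by omega⟩
  have htx : ((c ^ m : H) : H ⧸ K) = x := by
    rw [QuotientGroup.mk_pow, hcx', hj, pow_succ, pow_mul, pow_two, hxx, one_pow, one_mul]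
  refine ⟨c ^ m, g, pow_mem hc m, ?_, ?_⟩
  · rw [← (Commute.refl c).mul_pow, h1]
  · have h2 : ((c ^ m * (g * c ^ m * g⁻¹) : H) : H ⧸ K) = ((g : H ⧸ K) * g)⁻¹ := by
      rw [QuotientGroup.mk_mul, QuotientGroup.mk_mul, QuotientGroup.mk_mul, htx, QuotientGroup.mk_inv]
      have hxi : x⁻¹ = x := inv_eq_of_mul_eq_one_left hxx
      rw [hxi] at hxu
      calc x * (↑g * x * (↑g)⁻¹) = (x * ↑g * x) * (↑g)⁻¹ := by group
        _ = ((g : H ⧸ K) * g)⁻¹ := by rw [hxu, mul_inv_rev]
    have h3 : orderOf ((c ^ m * (g * c ^ m * g⁻¹) : H) : H ⧸ K) ∣ orderOf (c ^ m * (g * c ^ m * g⁻¹)) :=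
      orderOf_map_dvd (QuotientGroup.mk' K) _
    rw [h2, orderOf_inv] at h3
    exact hρ.trans h3

end Invol

end Cfsg.Agent.H58.Cop
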