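import Cfsg.Agent.H58.Cop.Engine

/-!
# Proper subgroups containing an element of a large prime order (helper58)

`main_cases` : `H < G`, `r` divides `|H|`, the only simple group of order divisible by `r` and dividing `|G|` is `PSL₂(r)`:
either the subgroups of order `r` of `H` are normal, or there is an involution of `C_H(K)`, `K = O_{r'}(H)`, with a product
of two conjugates of order divisible by `ρ`.
-/

set_option autoImplicit false

namespace Cfsg.Agent.H58.Cop

open Subgroup
open Cfsg Cfsg.Agent.OrdDiv Cfsg.Agent.H995.CopEngine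

universe u

/-- the check: the only candidate of order divisible by `r` and different from `N` is `PSL₂(r)` -/
def chkPsl (l : List (ℕ × ℕ)) (N r : ℕ) : Bool :=
  (cands l N).all fun g => !Nat.beq (ordN g % r) 0 || Nat.beq (ordN g) N || decide (g = .psl 2 r)

theorem psl_of_chk (hK : AllKnown.{u}) {S : Type u} [Group S] [Finite S] [IsSimpleGroup S] (hna : ¬ ∀ a b : S, a * b = b * a)
    {l : List (ℕ × ℕ)} {N r : ℕ} (hv : valid l N = true) (hd : Nat.card S ∣ N) (hr : r ∣ Nat.card S)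
    (hne : Nat.card S ≠ N) (hc : chkPsl l N r = true) :
    (∃ (F : Type) (_ : Field F) (_ : Fintype F), Fintype.card F = r ∧
      Nonempty (S ≃* Matrix.ProjectiveSpecialLinearGroup (Fin 2) F)) ∧ Nat.card S = ordN (.psl 2 r) := by
  obtain ⟨g, hg, hR, ho⟩ := exists_good table (hK S) hna hv hd
  have h1 := (List.all_eq_true.1 hc) g hg
  rw [Bool.or_eq_true, Bool.or_eq_true] at h1
  rcases h1 with (h1 | h1) | h1
  · rw [ho] at hr
    rw [Nat.mod_eq_zero_of_dvd hr] at h1
    simp at h1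
  · exact absurd (ho.trans (Nat.eq_of_beq_eq_true h1)) hne
  · have h2 : g = .psl 2 r := of_decide_eq_true h1
    rw [h2] at hR ho
    exact ⟨hR, ho⟩

/-- **The two cases.** -/
theorem main_cases (hK : AllKnown.{u}) {G : Type u} [Group G] [Finite G] {H : Subgroup G} (hH : H ≠ ⊤)
    {l : List (ℕ × ℕ)} {N r ρ : ℕ} (hN : Nat.card G = N) (hv : valid l N = true) (hr : r.Prime) (hd : r ∣ Nat.card H)
    (h2 : ¬ r ^ 2 ∣ N) (hc : chkPsl l N r = true)
    (hm : ∀ d, d ∣ ordN (.psl 2 r) → d % r = 1 → d = 1 ∨ d = r + 1) (hρ : ρ.Prime) (hρ2 : ρ ≠ 2) (hρr : ρ ∣ r - 1)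
    (hodd : ∀ K : Subgroup H, K.Normal → ¬ r ∣ Nat.card K → ¬ 2 ∣ Nat.card K)
    (hcond : ∀ p : ℕ, p.Prime → p ≠ 2 → ∀ i, 1 ≤ i → p ^ i ∣ N → ¬ r ∣ p ^ i - 1) :
    ∃ K : Subgroup H, K.Normal ∧ ¬ r ∣ Nat.card K ∧ ¬ 2 ∣ Nat.card K ∧
      (∀ A : Subgroup H, A.Normal → ¬ r ∣ Nat.card A → A ≤ K) ∧
      (∀ w : H, w ^ r = 1 → K ≤ centralizer ({w} : Set H)) ∧
      ((K.index ∣ r * (r - 1) ∧ ∀ w : H, orderOf w = r → (zpowers w).Normal) ∨
        (K.index ∣ r * (r - 1) * (r + 1) ∧ ∃ t g : H, t ∈ centralizer (K : Set H) ∧ t * t = 1 ∧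
          ρ ∣ orderOf (t * (g * t * g⁻¹)))) := by
  have hfr : Fact r.Prime := ⟨hr⟩
  have hHN : Nat.card H ∣ N := hN ▸ Subgroup.card_subgroup_dvd_card H
  have h2H : ¬ r ^ 2 ∣ Nat.card H := fun h => h2 (h.trans hHN)
  obtain ⟨K, hKn, hrK, hmax⟩ := exists_core H hr
  have hKodd := hodd K hKn hrK
  have hKN : Nat.card K ∣ N := (Subgroup.card_subgroup_dvd_card K).trans hHN
  have hcen : ∀ w : H, w ^ r = 1 → K ≤ centralizer ({w} : Set H) := by
    intro w hw
    refine core_le hr K hrK ?_ hw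
    intro p hp i hi hpi
    refine hcond p hp ?_ i hi (hpi.trans hKN)
    rintro rfl
    exact hKodd ((dvd_pow_self 2 (by omega)).trans hpi)
  refine ⟨K, hKn, hrK, hKodd, hmax, hcen, ?_⟩
  have hcQ := Subgroup.card_eq_card_quotient_mul_card_subgroup K
  have hqd : Nat.card (H ⧸ K) ∣ Nat.card H := Dvd.intro _ hcQ.symm
  have hrq : r ∣ Nat.card (H ⧸ K) := by
    rw [hcQ] at hd
    exact (hr.dvd_mul.1 hd).resolve_right hrK
  have h2q : ¬ r ^ 2 ∣ Nat.card (H ⧸ K) := fun h => h2H (h.trans hqd)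
  have hO := quot_core hr hrK hmax
  -- simple subgroups of the quotient
  have hsimp : ∀ S : Subgroup (H ⧸ K), IsSimpleGroup S → (¬ ∀ a b : S, a * b = b * a) → r ∣ Nat.card S →
      (∃ (F : Type) (_ : Field F) (_ : Fintype F), Fintype.card F = r ∧
        Nonempty (S ≃* Matrix.ProjectiveSpecialLinearGroup (Fin 2) F)) ∧ Nat.card S = ordN (.psl 2 r) := by
    intro S hS hna hrS
    have hSH : Nat.card S ∣ Nat.card H := (Subgroup.card_subgroup_dvd_card S).trans hqd
    refine psl_of_chk hK hna hv (hSH.trans hHN) hrS ?_ hc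
    intro h
    apply hH
    apply Subgroup.eq_top_of_card_eq
    apply Nat.dvd_antisymm (Subgroup.card_subgroup_dvd_card H)
    rw [hN, ← h]
    exact hSH
  have hSd : ∀ S : Subgroup (H ⧸ K), IsSimpleGroup S → (¬ ∀ a b : S, a * b = b * a) → r ∣ Nat.card S →
      ∀ d, d ∣ Nat.card S → d % r = 1 → d = 1 ∨ d = r + 1 := by
    intro S hS hna hrS
    rw [(hsimp S hS hna hrS).2]
    exact hm
  -- an element of order r
  obtain ⟨v, hv'⟩ := exists_prime_orderOf_dvd_card' (G := H) r hd
  have hmk : ∀ w : H, orderOf w = r → orderOf (w : H ⧸ K) = r := by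
    intro w hw
    have h3 : orderOf (w : H ⧸ K) ∣ r := by
      rw [← hw]
      exact orderOf_map_dvd (QuotientGroup.mk' K) w
    rcases (Nat.dvd_prime hr).1 h3 with h4 | h4
    · exfalso
      rw [orderOf_eq_one_iff, QuotientGroup.eq_one_iff] at h4
      apply hrK
      rw [← hw, ← Subgroup.orderOf_mk w h4]
      exact orderOf_dvd_natCard _
    · exact h4
  have hpv : IsPGroup r (zpowers (v : H ⧸ K)) :=
    IsPGroup.of_card (n := 1) (by rw [Nat.card_zpowers, hmk v hv', pow_one])
  obtain ⟨P, hP⟩ := hpv.exists_le_sylow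
  have hPc := sylow_card hr hrq h2q P
  rw [Subgroup.index_eq_card]
  rcases cases_top hr hrq h2q hO hSd P with ⟨hn, hcd⟩ | ⟨hS, hna, hrS, hcd⟩
  · left
    refine ⟨hcd, fun w hw => ?_⟩
    have hw1 : w ^ r = 1 := by rw [← hw, pow_orderOf_eq_one]
    -- `zpowers w̄ = P`
    have hwP : zpowers (w : H ⧸ K) = (P : Subgroup (H ⧸ K)) := by
      have hpw : IsPGroup r (zpowers (w : H ⧸ K)) :=
        IsPGroup.of_card (n := 1) (by rw [Nat.card_zpowers, hmk w hw, pow_one])
      obtain ⟨P', hP'⟩ := hpw.exists_le_sylow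
      have hsub : Subsingleton (Sylow r (H ⧸ K)) := by
        have := Sylow.unique_of_normal P hn
        infer_instance
      rw [Subsingleton.elim P' P] at hP'
      exact Subgroup.eq_of_le_of_card_ge hP' (by rw [Nat.card_zpowers, hmk w hw, hPc])
    have key : ∀ g : H, g * w * g⁻¹ ∈ zpowers w := by
      intro g
      have h3 : ((g * w * g⁻¹ : H) : H ⧸ K) ∈ zpowers (w : H ⧸ K) := by
        rw [hwP, QuotientGroup.mk_mul, QuotientGroup.mk_mul, QuotientGroup.mk_inv]
        refine hn.conj_mem _ ?_ _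
        rw [← hwP]
        exact mem_zpowers _
      obtain ⟨i, hi⟩ := mem_zpowers_iff.1 h3
      rw [← QuotientGroup.mk_zpow, QuotientGroup.eq] at hi
      set k := (w ^ i)⁻¹ * (g * w * g⁻¹) with hk
      have hkw : Commute k w := (mem_centralizer_singleton_iff.1 (hcen w hw1 hi))
      have hgw : g * w * g⁻¹ = w ^ i * k := by rw [hk]; group
      have h4 : (w ^ i * k) ^ r = 1 := by
        rw [← hgw, conj_pow, hw1, mul_one, mul_inv_cancel]
      have h5 : Commute (w ^ i) k := (hkw.symm.zpow_left i)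
      rw [h5.mul_pow, ← zpow_natCast, ← zpow_mul, mul_comm, zpow_mul, zpow_natCast, hw1, one_zpow, one_mul] at h4
      have h6 : orderOf k ∣ r := orderOf_dvd_of_pow_eq_one h4
      have h7 : orderOf k = 1 := by
        rcases (Nat.dvd_prime hr).1 h6 with h8 | h8
        · exact h8
        · exfalso
          apply hrK
          rw [← h8, ← Subgroup.orderOf_mk k hi]
          exact orderOf_dvd_natCard _
      rw [orderOf_eq_one_iff] at h7
      rw [hgw, h7, mul_one]
      exact zpow_mem (mem_zpowers w) i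
    constructor
    intro n hn' g
    obtain ⟨i, rfl⟩ := mem_zpowers_iff.1 hn'
    rw [← conj_zpow]
    exact zpow_mem (key g) i
  · right
    refine ⟨hcd, ?_⟩
    obtain ⟨⟨F, hF1, hF2, hcF, ⟨e⟩⟩, -⟩ := hsimp _ hS hna hrS
    obtain ⟨x, u, hxx, hxu, hρu⟩ := psl_inv (F := F) hρ hρ2 (by rw [hcF]; exact hρr)
    have hle : normalClosure ((P : Subgroup (H ⧸ K)) : Set (H ⧸ K)) ≤
        (centralizer (K : Set H)).map (QuotientGroup.mk' K) := by
      have hcn : (centralizer (K : Set H)).Normal := Subgroup.normal_centralizer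
      have : ((centralizer (K : Set H)).map (QuotientGroup.mk' K)).Normal :=
        hcn.map _ (QuotientGroup.mk'_surjective K)
      apply normalClosure_le_normal
      have hPv : (P : Subgroup (H ⧸ K)) = zpowers (v : H ⧸ K) := by
        symm
        exact Subgroup.eq_of_le_of_card_ge hP (by rw [Nat.card_zpowers, hmk v hv', hPc])
      rw [hPv]
      rintro _ ⟨i, rfl⟩
      have hvm : (v : H ⧸ K) ∈ (centralizer (K : Set H)).map (QuotientGroup.mk' K) := by
        refine ⟨v, ?_, rfl⟩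
        show v ∈ centralizer (K : Set H)
        rw [mem_centralizer_iff]
        intro k hk
        have hv1 : v ^ r = 1 := by rw [← hv', pow_orderOf_eq_one]
        exact mem_centralizer_singleton_iff.1 (hcen v hv1 hk)
      exact zpow_mem hvm i
    refine exists_invol K hKodd hle (x := (e.symm x : _)) (u := (e.symm u : _)) (e.symm x).2 ?_ ?_ ?_
    · rw [← Subgroup.coe_mul, ← map_mul, hxx, map_one, Subgroup.coe_one]
    · rw [← Subgroup.coe_mul, ← Subgroup.coe_inv, ← Subgroup.coe_mul, ← map_mul, ← map_inv, ← map_mul, hxu, map_inv,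
        Subgroup.coe_inv]
    · rw [← Subgroup.coe_mul, Subgroup.orderOf_coe, ← map_mul, MulEquiv.orderOf_eq]
      exact hρu

end Cfsg.Agent.H58.Cop
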