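import Cfsg.Agent.H58.Cop.M

/-!
# `SC 59` for the Monster (helper58)
-/

set_option autoImplicit false
set_option maxRecDepth 100000

namespace Cfsg.Agent.H58.Cop.M

open Cfsg Cfsg.Agent.H995.CopEngine Cfsg.Agent.H995.CopTwo
open Cfsg.Agent.BpSpor.MBigModel Cfsg.Agent.H58.Cop.MLow
open Cfsg.Agent.LThreeB.Row (TA)
open Subgroup

theorem ne_one_of_ord {G : Type*} [Group G] {q : ℕ} (hq : q.Prime) {y : G} (hy : orderOf y = q) : y ≠ 1 := by
  rintro rfl
  rw [orderOf_one] at hy
  exact hq.one_lt.ne hy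

theorem dvd_59 {y v : MG} (hv : orderOf v = 59) (hvy : v * y = y * v) :
    59 ∣ Nat.card (centralizer ({y} : Set MG)) := by
  have hfin := finite
  have h1 := orderOf_dvd_natCard (⟨v, mem_centralizer_singleton_iff.2 hvy⟩ : centralizer ({y} : Set MG))
  rwa [Subgroup.orderOf_mk, hv] at h1

/-- 59 divides `|C(y)|` for all `y` of order `q`, if `C(v)` contains a Sylow `q`-subgroup -/
theorem all_dvd {v : MG} (hv : orderOf v = 59) {q : ℕ} [Fact q.Prime] {P : Sylow q MG}
    (hP : (P : Subgroup MG) ≤ centralizer ({v} : Set MG)) {y : MG} (hy : orderOf y = q) :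
    59 ∣ Nat.card (centralizer ({y} : Set MG)) := by
  have hfin := finite
  obtain ⟨g, hg⟩ := exists_conj_mem hP hy
  rw [← card_cent_conj g y]
  exact dvd_59 hv (mem_centralizer_singleton_iff.1 hg).symm

/-- the elements of order 3 or 5 commuting with a conjugate of `zz` -/
theorem not_z (hK : AllKnown.{0}) {q : ℕ} (hq : q = 3 ∨ q = 5) {y c : MG} (hy : orderOf y = q)
    (hc : (c * zz * c⁻¹) * y = y * (c * zz * c⁻¹)) (h59 : 59 ∣ Nat.card (centralizer ({y} : Set MG))) : False := by
  have hqp : q.Prime := by rcases hq with rfl | rfl <;> norm_num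
  refine not_sixteen hK (ne_one_of_ord hqp hy) h59 ?_
  obtain ⟨x, hx, hcx⟩ := exists_in hy hc
  rw [← hcx]
  rcases hq with rfl | rfl
  · exact dvd_three hx
  · exact dvd_five hx

/-- **3 and 5 do not divide `|C(v)|`.** -/
theorem not_three_five (hK : AllKnown.{0}) {v : MG} (hv : orderOf v = 59) {q : ℕ} (hq : q = 3 ∨ q = 5) :
    ¬ q ∣ Nat.card (centralizer ({v} : Set MG)) := by
  intro hd
  have hfin := finite
  have hqp : q.Prime := by rcases hq with rfl | rfl <;> norm_num
  have : Fact q.Prime := ⟨hqp⟩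
  obtain ⟨P, hP⟩ := sylow_full (C := centralizer ({v} : Set MG)) hd (fun y hyC hy k hk => by
    have hvy := mem_centralizer_singleton_iff.1 hyC
    refine part_dvd hK hqp (ne_one_of_ord hqp hy) hv hvy.symm (Or.inr ⟨fun h2 => ?_, ?_⟩) k hk
    · obtain ⟨c, hc⟩ := even_z hK (ne_one_of_ord hqp hy) (dvd_59 hv hvy.symm) h2
      exact not_z hK hq hy hc (dvd_59 hv hvy.symm)
    · rcases hq with rfl | rfl <;> norm_num)
  -- an element of order `q` of `C(zz)`
  have h1 : q ∣ Nat.card (centralizer ({zz} : Set MG)) := by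
    rw [card_cent_z]
    rcases hq with rfl | rfl <;> norm_num
  obtain ⟨x, hx⟩ := exists_ord_of_dvd hqp h1
  have hxo : orderOf (x : MG) = q := by rw [Subgroup.orderOf_coe, hx]
  refine not_z hK hq (c := 1) hxo ?_ (all_dvd hv hP hxo)
  rw [one_mul, inv_one, mul_one]
  exact (mem_centralizer_singleton_iff.1 x.2).symm

theorem not_seven (hK : AllKnown.{0}) {v : MG} (hv : orderOf v = 59) :
    ¬ 7 ∣ Nat.card (centralizer ({v} : Set MG)) := by
  intro hd
  have hfin := finite
  have hqp : Nat.Prime 7 := by norm_num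
  have : Fact (Nat.Prime 7) := ⟨hqp⟩
  obtain ⟨P, hP⟩ := sylow_full (C := centralizer ({v} : Set MG)) hd (fun y hyC hy k hk =>
    part_dvd hK hqp (ne_one_of_ord hqp hy) hv (mem_centralizer_singleton_iff.1 hyC).symm (Or.inl (by norm_num)) k hk)
  obtain ⟨y, hy, h16⟩ := exists_seven
  exact not_sixteen hK (ne_one_of_ord hqp hy) (all_dvd hv hP hy) h16

/-- **The primes 11, 13, 17, 19, 31, 47.** -/
theorem not_mid (hK : AllKnown.{0}) {v : MG} (hv : orderOf v = 59) {q : ℕ}
    (hq : q ∈ ([11, 13, 17, 19, 31, 47] : List ℕ)) : ¬ q ∣ Nat.card (centralizer ({v} : Set MG)) := by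
  intro hd
  have hfin := finite
  simp only [List.mem_cons, List.not_mem_nil, or_false] at hq
  have hqp : q.Prime := by rcases hq with rfl | rfl | rfl | rfl | rfl | rfl <;> norm_num
  have hq3 : ¬ q ∣ 59 * 58 * 60 := by rcases hq with rfl | rfl | rfl | rfl | rfl | rfl <;> norm_num
  have : Fact q.Prime := ⟨hqp⟩
  obtain ⟨P, hP⟩ := sylow_full (C := centralizer ({v} : Set MG)) hd (fun y hyC hy k hk =>
    part_dvd hK hqp (ne_one_of_ord hqp hy) hv (mem_centralizer_singleton_iff.1 hyC).symm (Or.inl hq3) k hk)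
  obtain ⟨t, ht⟩ := exists_ta
  have h1 : q ∣ Nat.card (centralizer ({t} : Set MG)) := by
    rw [card_cent_t ht]
    rcases hq with rfl | rfl | rfl | rfl | rfl | rfl <;> norm_num
  obtain ⟨x, hx⟩ := exists_ord_of_dvd hqp h1
  have hxo : orderOf (x : MG) = q := by rw [Subgroup.orderOf_coe, hx]
  have hx1 := ne_one_of_ord hqp hxo
  have h59 := all_dvd hv hP hxo
  obtain ⟨K, hKn, hrK, hK2, -, hcen, hcases⟩ := struct hK hx1 h59
  rcases hcases with ⟨-, hn⟩ | ⟨h3, s, g, hs, hss, h29⟩
  · exact no_ta h59 hn ht (mem_centralizer_singleton_iff.1 x.2).symm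
  obtain ⟨hs2, c, hc⟩ := exists_z (K := K) hss h29
  -- `x` commutes with `s`
  have hsx := mem_centralizer_singleton_iff.1 s.2
  have hqz : q ∣ Nat.card (centralizer ({(s : MG)} : Set MG)) := by
    have h4 := orderOf_dvd_natCard (⟨(x : MG), mem_centralizer_singleton_iff.2 hsx.symm⟩ : centralizer ({(s : MG)} : Set MG))
    rwa [Subgroup.orderOf_mk, hxo] at h4
  have hcz : Nat.card (centralizer ({(s : MG)} : Set MG)) = 2 ^ 25 * 4157776806543360000 := by
    rw [← hc, card_cent_conj, card_cent_z]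
  by_cases hq' : q = 11 ∨ q = 13
  · have h5 : q ^ 2 ∣ Nat.card (centralizer ({(x : MG)} : Set MG)) := by
      refine sq_dvd_cent ?_ hxo
      rw [card_M]
      rcases hq' with rfl | rfl <;> norm_num
    have h6 : q ^ 2 ∣ Nat.card K :=
      pow_dvd_normal K (p := q) (k := 2) (j := 0) hqp (by rw [add_zero]; exact h5) h3 (by rwa [zero_add, pow_one])
    have h7 : K ≤ centralizer ({s} : Set _) := by
      intro k hk
      rw [mem_centralizer_singleton_iff]
      exact mem_centralizer_iff.1 hs k hk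
    have h8 := h6.trans (card_K_dvd h7)
    exact not_sq hq' hs2 h8
  · rw [hcz] at hqz
    have hq'' : q = 17 ∨ q = 19 ∨ q = 31 ∨ q = 47 := by omega
    rcases hq'' with rfl | rfl | rfl | rfl <;> norm_num at hqz

/-- the primes dividing `|C(v)|` -/
theorem primes_cent (hK : AllKnown.{0}) {v : MG} (hv : orderOf v = 59) {q : ℕ} (hq : q.Prime)
    (hd : q ∣ Nat.card (centralizer ({v} : Set MG))) : q = 23 ∨ q = 29 ∨ q = 41 ∨ q = 59 ∨ q = 71 := by
  have hfin := finite
  have h1 := mem_primes hq (card_M ▸ hd.trans (Subgroup.card_subgroup_dvd_card _))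
  simp only [List.mem_cons, List.not_mem_nil, or_false] at h1
  have h2 : q ≠ 2 := by
    rintro rfl
    obtain ⟨t, ht⟩ := exists_ord_of_dvd Nat.prime_two hd
    have ht' : orderOf (t : MG) = 2 := by rw [Subgroup.orderOf_coe, ht]
    exact not_dvd_cent ht' (dvd_59 hv (mem_centralizer_singleton_iff.1 t.2).symm)
  have h3 : q ≠ 3 := fun h => not_three_five hK hv (Or.inl h) hd
  have h5 : q ≠ 5 := fun h => not_three_five hK hv (Or.inr h) hd
  have h7 : q ≠ 7 := by rintro rfl; exact not_seven hK hv hd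
  have h11 : q ≠ 11 := fun h => not_mid hK hv (by simp [h]) hd
  have h13 : q ≠ 13 := fun h => not_mid hK hv (by simp [h]) hd
  have h17 : q ≠ 17 := fun h => not_mid hK hv (by simp [h]) hd
  have h19 : q ≠ 19 := fun h => not_mid hK hv (by simp [h]) hd
  have h31 : q ≠ 31 := fun h => not_mid hK hv (by simp [h]) hd
  have h47 : q ≠ 47 := fun h => not_mid hK hv (by simp [h]) hd
  omega

end Cfsg.Agent.H58.Cop.M
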